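import Mathlib
import Cfsg.Agent.Lib.Ito.Basic
import Cfsg.Agent.Lib.Core.Fitting
import Cfsg.Agent.Lib.SylTools.Basic
import Cfsg.Agent.Lib.Count.Subgroups

/-!
# Groups with class sizes `1, m, n, m n`: basic facts
-/

set_option autoImplicit false

namespace CfsgLib.CT4

open Cfsg Subgroup CfsgLib.Fgs CfsgLib.Ito

universe u

variable {G : Type u} [Group G] [Finite G]

/-- centraliser of an element -/
abbrev Ce (x : G) : Subgroup G := centralizer ({x} : Set G)

/-- `x` is an `r`-element -/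
def PE (r : ℕ) (x : G) : Prop := ∃ k, orderOf x = r ^ k

omit [Finite G] in
theorem PE.cop {r s : ℕ} {x y : G} (hx : PE r x) (hy : PE s y) (h : r.Coprime s) :
    (orderOf x).Coprime (orderOf y) := by
  obtain ⟨k, hk⟩ := hx
  obtain ⟨l, hl⟩ := hy
  rw [hk, hl]; exact Nat.Coprime.pow _ _ h

omit [Finite G] in
theorem PE.cop' {r s : ℕ} {x : G} (hx : PE r x) (h : r.Coprime s) :
    (orderOf x).Coprime s := by
  obtain ⟨k, hk⟩ := hx
  rw [hk]; exact Nat.Coprime.pow_left _ h

theorem PE.of_mem {r : ℕ} (hr : r.Prime) {A : Subgroup G} (hA : IsPGroup r A) {x : G}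
    (hx : x ∈ A) : PE r x :=
  haveI := Fact.mk hr
  SylTools.exists_orderOf_eq_pow_of_mem hA hx

theorem PE.zp {r : ℕ} (hr : r.Prime) {x : G} (hx : PE r x) : IsPGroup r (zpowers x) :=
  haveI := Fact.mk hr
  SylTools.isPGroup_zpowers_of_orderOf hx.choose_spec

omit [Finite G] in
theorem PE.conj {r : ℕ} {x : G} (hx : PE r x) (g : G) : PE r (g * x * g⁻¹) := by
  obtain ⟨k, hk⟩ := hx
  refine ⟨k, ?_⟩
  rw [← hk]
  exact (MulAut.conj g).orderOf_eq x

omit [Finite G] in
theorem mem_Ce_symm {x y : G} (h : y ∈ Ce x) : x ∈ Ce y :=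
  mem_cent_iff.2 (mem_cent_iff.1 h).symm

theorem not_dvd_rel {r : ℕ} (hr : r.Prime) {D E : Subgroup G}
    (h : ∀ a ∈ D, PE r a → a ∈ E) : ¬ r ∣ E.relIndex D := by
  haveI := Fact.mk hr
  obtain ⟨R, hR, -, hRD, hi⟩ := SylTools.exists_sylow_of_le (p := r) (A := ⊥) (H := D)
    IsPGroup.of_bot bot_le
  exact fun hd => hi (hd.trans (relIndex_dvd_of_le_left D fun a ha =>
    h a (hRD ha) (PE.of_mem hr hR ha)))

theorem mem_of_not_dvd_rel {r : ℕ} (hr : r.Prime) {D E : Subgroup G} [E.Normal]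
    (h : ¬ r ∣ E.relIndex D) {a : G} (ha : a ∈ D) (hpe : PE r a) : a ∈ E := by
  have h1 : a ^ E.relIndex D ∈ E := E.pow_relIndex_mem ha
  have h2 : (E.relIndex D).Coprime (orderOf a) :=
    (hpe.cop' ((Nat.Prime.coprime_iff_not_dvd hr).2 h)).symm
  obtain ⟨k, hk⟩ := exists_pow_eq_self_of_coprime (x := a) h2
  rw [← hk]; exact pow_mem h1 _

theorem exists_not_mem_of_dvd {r : ℕ} (hr : r.Prime) {D E : Subgroup G}
    (h : r ∣ E.relIndex D) : ∃ a ∈ D, PE r a ∧ a ∉ E := by
  by_contra hc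
  push Not at hc
  exact not_dvd_rel hr hc h

omit [Finite G] in
theorem le_of_primes {D E : Subgroup G} (h : ∀ r : ℕ, r.Prime → ¬ r ∣ E.relIndex D) :
    D ≤ E := by
  rw [← relIndex_eq_one]
  by_contra h1
  obtain ⟨r, hr, hd⟩ := Nat.exists_prime_and_dvd h1
  exact h r hr hd

theorem ix_mul {x z : G} (hz : z ∈ Ce x) (hc : (orderOf x).Coprime (orderOf z)) :
    ix (x * z) = (Ce z).relIndex (Ce x) * ix x := by
  change (centralizer {x * z}).index = _
  rw [cent_mul_of_coprime (mem_cent_iff.1 hz) hc, ← inf_relIndex_left,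
    relIndex_mul_index inf_le_left]

omit [Finite G] in
theorem rel_center_mul (x : G) : (center G).relIndex (Ce x) * ix x = (center G).index :=
  relIndex_mul_index (center_le_cent x)

theorem eq_of_le_of_ix {x z : G} (h : Ce x ≤ Ce z) (e : ix z = ix x) : Ce z = Ce x := by
  have h1 := relIndex_mul_index h
  have h2 : (Ce x).relIndex (Ce z) = 1 := by
    have h3 := ix_pos z
    change _ * ix z = ix x at h1
    rw [← e] at h1
    exact Nat.eq_of_mul_eq_mul_right h3 (h1.trans (one_mul _).symm)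
  exact le_antisymm (relIndex_eq_one.1 h2) h

/-- a prime dividing no class size has central elements -/
theorem central_of_not_dvd {r : ℕ} (hr : r.Prime) (h : ∀ y : G, ¬ r ∣ ix y) {a : G}
    (ha : PE r a) : a ∈ center G := by
  haveI := Fact.mk hr
  obtain ⟨P, hP⟩ := exists_sylow_mem ha
  have : centralizer ((P : Subgroup G) : Set G) = ⊤ := by
    refine Count.eq_top_of_forall_exists_conj_mem _ fun y => ?_
    obtain ⟨Q, hQ⟩ := exists_sylow_le_of_not_dvd_index (h y)
    obtain ⟨g, hg⟩ := SylTools.exists_conj_sylow Q P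
    refine ⟨g, fun b hb => ?_⟩
    have h1 : g⁻¹ * b * g ∈ (Q : Subgroup G) := (hg _).2 (by
      rw [show g * (g⁻¹ * b * g) * g⁻¹ = b by group]; exact hb)
    have h2 := (mem_cent_iff.1 (hQ h1)).eq
    calc b * (g * y * g⁻¹) = g * ((g⁻¹ * b * g) * y) * g⁻¹ := by group
      _ = g * (y * (g⁻¹ * b * g)) * g⁻¹ := by rw [h2]
      _ = g * y * g⁻¹ * b := by group
  rw [mem_center_iff]
  intro g
  have h1 : g ∈ centralizer ((P : Subgroup G) : Set G) := this ▸ mem_top g
  exact (h1 a hP).symm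

/-- the class sizes of `G` are `1, m, n, m n` -/
structure Hyp (G : Type u) [Group G] (m n : ℕ) : Prop where
  hm : 1 < m
  hn : 1 < n
  cop : m.Coprime n
  mem : ∀ x : G, ix x = 1 ∨ ix x = m ∨ ix x = n ∨ ix x = m * n
  exm : ∃ x : G, ix x = m
  exn : ∃ x : G, ix x = n
  exf : ∃ x : G, ix x = m * n

variable {m n : ℕ}

omit [Finite G] in
theorem Hyp.symm (H : Hyp G m n) : Hyp G n m where
  hm := H.hn
  hn := H.hm
  cop := H.cop.symm
  mem x := by rw [mul_comm]; have := H.mem x; tauto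
  exm := H.exn
  exn := H.exm
  exf := by rw [mul_comm]; exact H.exf

omit [Finite G] in
theorem Hyp.not_dvd (H : Hyp G m n) : ¬ m ∣ n := fun h => by
  have := H.hm
  have := Nat.Coprime.eq_one_of_dvd H.cop h
  omega

omit [Finite G] in
theorem Hyp.dvd_full (H : Hyp G m n) (x : G) : ix x ∣ m * n := by
  rcases H.mem x with h | h | h | h <;> rw [h]
  exacts [one_dvd _, dvd_mul_right _ _, dvd_mul_left _ _]

omit [Finite G] in
theorem Hyp.of_dvd (H : Hyp G m n) {x : G} (h : m ∣ ix x) : ix x = m ∨ ix x = m * n := by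
  rcases H.mem x with e | e | e | e
  · rw [e, Nat.dvd_one] at h; have := H.hm; omega
  · exact Or.inl e
  · exact absurd (e ▸ h) H.not_dvd
  · exact Or.inr e

theorem Hyp.rel_m (H : Hyp G m n) {x z : G} (hx : ix x = m) (hz : z ∈ Ce x)
    (hc : (orderOf x).Coprime (orderOf z)) :
    (Ce z).relIndex (Ce x) = 1 ∨ (Ce z).relIndex (Ce x) = n := by
  have h := ix_mul hz hc
  have hm : 0 < m := by have := H.hm; omega
  rw [hx] at h
  rcases H.of_dvd (x := x * z) (h ▸ dvd_mul_left _ _) with e | e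
  · left; exact Nat.eq_of_mul_eq_mul_right hm (by rw [← h, e, one_mul])
  · right; exact Nat.eq_of_mul_eq_mul_right hm (by rw [← h, e, mul_comm])

theorem Hyp.le_of_full (H : Hyp G m n) {x z : G} (hx : ix x = m * n) (hz : z ∈ Ce x)
    (hc : (orderOf x).Coprime (orderOf z)) : Ce x ≤ Ce z := by
  have h := ix_mul hz hc
  have h1 := H.dvd_full (x * z)
  have hm : 0 < m * n := hx ▸ ix_pos x
  rw [h, hx] at h1
  rw [← relIndex_eq_one, ← Nat.dvd_one]
  exact Nat.dvd_of_mul_dvd_mul_right hm (by simpa using h1)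

theorem Hyp.eq_of_le (H : Hyp G m n) {x z : G} (hx : ix x = m) (h : Ce x ≤ Ce z)
    (hz : z ∉ center G) : Ce z = Ce x := by
  refine eq_of_le_of_ix h ?_
  have h1 := ix_dvd_of_le h
  rw [hx] at h1 ⊢
  rcases H.mem z with e | e | e | e
  · exact absurd (index_cent_eq_one_iff.1 e) hz
  · exact e
  · exact absurd (e ▸ h1) H.symm.not_dvd
  · exact absurd ((dvd_mul_left n m).trans (e ▸ h1)) H.symm.not_dvd

omit [Finite G] in
theorem Hyp.not_center (H : Hyp G m n) {x : G} (hx : m ∣ ix x) : x ∉ center G := fun h => by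
  have h1 : ix x = 1 := index_cent_eq_one_iff.2 h
  rw [h1, Nat.dvd_one] at hx
  have := H.hm; omega

theorem Hyp.exists_primary (H : Hyp G m n) {x : G} (hx : ix x = m) :
    ∃ (r : ℕ) (a : G), r.Prime ∧ PE r a ∧ Ce a = Ce x := by
  obtain ⟨a, ha, h1, r, k, hr, hk⟩ := exists_primary_not_mem (center G) _ x rfl
    (H.not_center (hx ▸ dvd_rfl))
  exact ⟨r, a, hr, ⟨k, hk⟩, H.eq_of_le hx (cent_le_cent_of_mem_zpowers ha) h1⟩

omit [Finite G] in
theorem Hyp.dvd_center (H : Hyp G m n) : m * n ∣ (center G).index := by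
  obtain ⟨x, hx⟩ := H.exf
  exact hx ▸ index_dvd_of_le (center_le_cent x)

theorem Hyp.noZ (H : Hyp G m n) : (center G).index ≠ m * n := fun h => by
  obtain ⟨x, hx⟩ := H.exf
  have h1 := rel_center_mul x
  rw [h, hx] at h1
  have h2 : (center G).relIndex (Ce x) = 1 :=
    Nat.eq_of_mul_eq_mul_right (hx ▸ ix_pos x) (h1.trans (one_mul _).symm)
  exact H.not_center (hx ▸ dvd_mul_right _ _) (relIndex_eq_one.1 h2 (self_mem_cent x))

theorem Hyp.noAb (H : Hyp G m n) {x : G} (hx : ix x = m) (hab : ∀ a ∈ Ce x, Ce x ≤ Ce a) :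
    False := by
  obtain ⟨y, hy⟩ := H.exn
  refine H.noZ ?_
  have : center G = Ce x ⊓ Ce y := by
    refine le_antisymm (le_inf (center_le_cent x) (center_le_cent y)) fun w hw => ?_
    by_contra hc
    have h1 := H.eq_of_le hx (hab w hw.1) hc
    have h2 := ix_dvd_of_le (hab y (h1 ▸ mem_Ce_symm hw.2))
    rw [hx, hy] at h2
    exact H.symm.not_dvd h2
  rw [this, Core.index_inf_of_coprime_index]
  · exact congrArg₂ (· * ·) hx hy
  · change (ix x).Coprime (ix y)
    rw [hx, hy]; exact H.cop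

theorem Hyp.central (H : Hyp G m n) {r : ℕ} (hr : r.Prime) (h1 : ¬ r ∣ m) (h2 : ¬ r ∣ n)
    {a : G} (ha : PE r a) : a ∈ center G :=
  central_of_not_dvd hr (fun y hd => ((Nat.Prime.dvd_mul hr).1
    (hd.trans (H.dvd_full y))).elim h1 h2) ha

/-- abelian from primary elements -/
theorem ab_of_primary {x : G} (h : ∀ a ∈ Ce x, ∀ r : ℕ, r.Prime → PE r a → Ce x ≤ Ce a) :
    ∀ a ∈ Ce x, Ce x ≤ Ce a := fun a ha b hb =>
  mem_Ce_symm (le_of_primary (H := Ce x) (K := Ce b)
    (fun c hc r k hr hk => mem_Ce_symm (h c hc r hr ⟨k, hk⟩ hb)) ha)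

end CfsgLib.CT4
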