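import Mathlib
import Cfsg.Agent.Lib.CT4.Basic
import Cfsg.Agent.S4033
import Cfsg.Agent.S4034

/-!
# Groups with class sizes `1, m, n, m n`: `m` and `n` are prime powers
-/

set_option autoImplicit false

namespace CfsgLib.CT4

open Cfsg Subgroup CfsgLib.Fgs CfsgLib.Ito

universe u

variable {G : Type u} [Group G] [Finite G] {m n : ℕ}

theorem ppow_of_unique {n p : ℕ} (hn : 1 < n) (hp : p.Prime)
    (h : ∀ d : ℕ, d.Prime → d ∣ n → d = p) : IsPrimePow n := by
  have h1 := Nat.eq_prime_pow_of_unique_prime_dvd (n := n) (p := p) (by omega)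
    fun {d} hd hdn => h d hd hdn
  refine (isPrimePow_nat_iff n).2 ⟨p, _, hp, Nat.pos_of_ne_zero fun h0 => ?_, h1.symm⟩
  rw [h0, pow_zero] at h1; omega

omit [Finite G] in
theorem ncard_sub (D : Subgroup G) (z : D) :
    (ConjClasses.mk z).carrier.ncard = (Ce (z : G)).relIndex D := by
  rw [ncard_carrier_eq_index, index_cent_subgroup]

theorem Hyp.dvd_rel (H : Hyp G m n) {x : G} (hx : ix x = m) :
    n ∣ (center G).relIndex (Ce x) := by
  have h1 := H.dvd_center
  rw [← rel_center_mul x, hx, mul_comm] at h1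
  exact Nat.dvd_of_mul_dvd_mul_right (by have := H.hm; omega) h1

theorem Hyp.star1 (H : Hyp G m n) (hn : ¬ IsPrimePow n) {p : ℕ} (hp : p.Prime) {x : G}
    (hpx : PE p x) (hx : ix x = m) :
    p ∣ n ∧ ∀ s : ℕ, s.Prime → ¬ s ∣ n → ∀ z ∈ Ce x, PE s z → Ce x ≤ Ce z := by
  have hreg : ∀ z ∈ Ce x, (orderOf z).Coprime p →
      (Ce z).relIndex (Ce x) = 1 ∨ (Ce z).relIndex (Ce x) = n := fun z hz hc =>
    H.rel_m hx hz (hpx.cop' hc.symm)
  by_cases hall : ∀ z ∈ Ce x, (orderOf z).Coprime p → Ce x ≤ Ce z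
  · exfalso
    obtain ⟨r, hr, hrn, hrp⟩ : ∃ r : ℕ, r.Prime ∧ r ∣ n ∧ r ≠ p := by
      by_contra hc
      push Not at hc
      exact hn (ppow_of_unique H.hn hp hc)
    have hrp' := (Nat.coprime_primes hr hp).2 hrp
    obtain ⟨z, hz, hrz, hzc⟩ := exists_not_mem_of_dvd hr (hrn.trans (H.dvd_rel hx))
    have e := H.eq_of_le hx (hall z hz (hrz.cop' hrp')) hzc
    refine H.noAb hx (ab_of_primary fun a ha t ht hta => ?_)
    by_cases htp : t = p
    · subst htp
      have hz' : ix z = m := by change (Ce z).index = m; rw [e]; exact hx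
      rcases H.rel_m hz' (e ▸ ha) (hrz.cop hta hrp') with h | h
      · rw [e] at h; exact relIndex_eq_one.1 h
      · rw [e] at h
        refine absurd (h ▸ hrn) (not_dvd_rel hr fun b hb hrb => ?_)
        exact mem_Ce_symm (hall b hb (hrb.cop' hrp') ha)
    · exact hall a ha (hta.cop' ((Nat.coprime_primes ht hp).2 htp))
  push Not at hall
  obtain ⟨z₀, hz₀, hc₀, hn₀⟩ := hall
  have h₀ : (Ce z₀).relIndex (Ce x) = n :=
    (hreg z₀ hz₀ hc₀).resolve_left fun h => hn₀ (relIndex_eq_one.1 h)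
  have hc₀' : (orderOf (⟨z₀, hz₀⟩ : Ce x)).Coprime p := by rwa [← orderOf_coe]
  have h2 : Set.ncard (Set.range fun z : {z : Ce x // (orderOf z).Coprime p} =>
      (ConjClasses.mk (z : Ce x)).carrier.ncard) = 2 := by
    rw [Set.ncard_eq_two]
    refine ⟨1, n, H.hn.ne, Set.ext fun k => ⟨?_, ?_⟩⟩
    · rintro ⟨⟨z, hz⟩, rfl⟩
      simp only [ncard_sub]
      exact hreg z z.2 (by rwa [orderOf_coe])
    · rintro (rfl | rfl)
      · refine ⟨⟨1, by simp⟩, ?_⟩
        simp only [ncard_sub]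
        exact relIndex_eq_one.2 (by rw [coe_one]; exact le_top.trans cent_one.ge)
      · exact ⟨⟨⟨z₀, hz₀⟩, hc₀'⟩, by simp only [ncard_sub]; exact h₀⟩
  rcases Cfsg.Agent.S4033.result hp h2 with h | ⟨q, hq, P, Q, A, hqp, hA, hc, hN, -, htop⟩
  · obtain ⟨k, hk⟩ := (Cfsg.Agent.S4034.result hp).2 h _ hc₀'
    rw [ncard_sub] at hk
    refine absurd (ppow_of_unique H.hn hp fun d hd hdn => ?_) hn
    rw [← h₀, hk] at hdn
    exact (Nat.prime_dvd_prime_iff_eq hd hp).1 (hd.dvd_of_dvd_pow hdn)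
  haveI := Fact.mk hp
  haveI : A.Normal := ⟨fun a ha g => by
    rw [mem_center_iff.1 (hA ha) g, mul_inv_cancel_right]; exact ha⟩
  have hAi : ∀ d : ℕ, d.Prime → d ∣ A.index → d = p ∨ d = q := by
    intro d hd hdA
    have h3 : A.index ∣ Nat.card P * Nat.card Q := by
      rw [← hc, ← relIndex_top_right, ← htop, relIndex_sup_right]
      exact relIndex_dvd_card _ _
    obtain ⟨i, hi⟩ := P.isPGroup'.exists_card_eq
    obtain ⟨j, hj⟩ := Q.isPGroup'.exists_card_eq
    rw [hi, hj] at h3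
    rcases (Nat.Prime.dvd_mul hd).1 (hdA.trans h3) with h | h
    · exact Or.inl ((Nat.prime_dvd_prime_iff_eq hd hp).1 (hd.dvd_of_dvd_pow h))
    · exact Or.inr ((Nat.prime_dvd_prime_iff_eq hd hq.out).1 (hd.dvd_of_dvd_pow h))
  have hnA : n ∣ A.index := by
    rw [← h₀, ← index_cent_subgroup (Ce x) ⟨z₀, hz₀⟩]
    exact index_dvd_of_le (hA.trans (center_le_cent _))
  have hpn : p ∣ n := by
    by_contra hc
    exact hn (ppow_of_unique H.hn hq.out fun d hd hdn =>
      (hAi d hd (hdn.trans hnA)).resolve_left fun e => hc (e ▸ hdn))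
  have hqn : q ∣ n := by
    by_contra hc
    exact hn (ppow_of_unique H.hn hp fun d hd hdn =>
      (hAi d hd (hdn.trans hnA)).resolve_right fun e => hc (e ▸ hdn))
  refine ⟨hpn, fun s hs hsn z hz hsz b hb => ?_⟩
  have h4 : (⟨z, hz⟩ : Ce x) ∈ A := by
    refine Core.mem_of_coprime_orderOf_index ?_
    rw [← orderOf_coe]
    refine hsz.cop' ((Nat.Prime.coprime_iff_not_dvd hs).2 fun h => ?_)
    rcases hAi s hs h with e | e
    exacts [hsn (e ▸ hpn), hsn (e ▸ hqn)]
  have h5 := congrArg Subtype.val (mem_center_iff.1 (hA h4) ⟨b, hb⟩)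
  exact mem_cent_iff.2 h5.symm

theorem Hyp.star2 (H : Hyp G m n) (hn : ¬ IsPrimePow n) {x : G} (hx : ix x = m) {s : ℕ}
    (hs : s.Prime) (hsn : ¬ s ∣ n) : ¬ s ∣ (center G).relIndex (Ce x) := by
  obtain ⟨p, a, hp, hpa, e⟩ := H.exists_primary hx
  have ha : ix a = m := by change (Ce a).index = m; rw [e]; exact hx
  rw [← e]
  refine not_dvd_rel hs fun z hz hsz => ?_
  by_contra hc
  have e' := H.eq_of_le ha ((H.star1 hn hp hpa ha).2 s hs hsn z hz hsz) hc
  have hz' : ix z = m := by change (Ce z).index = m; rw [e']; exact ha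
  exact hsn (H.star1 hn hs hsz hz').1

theorem Hyp.isPrimePow (H : Hyp G m n) : IsPrimePow n := by
  by_contra hn
  obtain ⟨x, hx⟩ := H.exm
  have hm : 0 < m := by have := H.hm; omega
  have hk := rel_center_mul x
  rw [hx] at hk
  have N2 : ∀ g : G, m ∣ ix g → ∀ s : ℕ, s.Prime → ¬ s ∣ n → ∀ z ∈ Ce g, PE s z →
      z ∈ center G := by
    rintro g ⟨c, hc⟩ s hs hsn z hz hsz
    refine mem_of_not_dvd_rel hs (fun hd => H.star2 hn hx hs hsn (hd.trans ⟨c, ?_⟩)) hz hsz
    refine Nat.eq_of_mul_eq_mul_right hm ?_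
    rw [hk, ← rel_center_mul g, hc]; ring
  obtain ⟨s, hs, hsm⟩ := Nat.exists_prime_and_dvd H.hm.ne'
  have hsn : ¬ s ∣ n := fun h => hs.one_lt.ne' (Nat.eq_one_of_dvd_coprimes H.cop hsm h)
  obtain ⟨u, -, hsu, huc⟩ := exists_not_mem_of_dvd (D := ⊤) (E := center G) hs (by
    rw [relIndex_top_right, ← hk]; exact hsm.mul_left _)
  have hu : ix u = n := by
    rcases H.mem u with e | e | e | e
    · exact absurd (index_cent_eq_one_iff.1 e) huc
    · exact absurd (N2 u (e ▸ dvd_rfl) s hs hsn u (self_mem_cent u) hsu) huc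
    · exact e
    · exact absurd (N2 u (e ▸ dvd_mul_right _ _) s hs hsn u (self_mem_cent u) hsu) huc
  -- a noncentral `s`-element multiplied by a commuting coprime element keeps index prime to `m`
  have key : ∀ a b : G, ix a = n → b ∈ Ce a → (orderOf a).Coprime (orderOf b) →
      (∀ w ∈ Ce (a * b), PE s w → w ∈ center G) ∨ Ce a ≤ Ce b := by
    intro a b ha hb hc
    rcases H.symm.rel_m ha hb hc with h | h
    · exact Or.inr (relIndex_eq_one.1 h)
    · exact Or.inl (N2 _ (by rw [ix_mul hb hc, h]; exact dvd_mul_right _ _) s hs hsn)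
  have hD : ∀ z ∈ Ce u, ∀ t : ℕ, t.Prime → t ≠ s → PE t z → Ce u ≤ Ce z := by
    intro z hz t ht hts htz
    refine (key u z hu hz (hsu.cop htz ((Nat.coprime_primes hs ht).2 hts.symm))).resolve_left
      fun h => huc (h u ?_ hsu)
    exact mem_cent_iff.2 ((Commute.refl u).mul_left (mem_cent_iff.1 hz).symm)
  by_cases hall : ∀ z ∈ Ce u, ∀ t : ℕ, t.Prime → t ≠ s → PE t z → z ∈ center G
  · refine H.noZ ?_
    have h1 := rel_center_mul u
    rw [hu] at h1
    have h2 : ((center G).relIndex (Ce u)).Coprime ((center G).relIndex (Ce x)) := by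
      refine Nat.coprime_of_dvd fun t ht h3 h4 => ?_
      by_cases hts : t = s
      · exact H.star2 hn hx hs hsn (hts ▸ h4)
      · exact not_dvd_rel ht (fun z hz htz => hall z hz t ht hts htz) h3
    have h5 : (center G).relIndex (Ce u) = m := Nat.dvd_antisymm
      (h2.dvd_of_dvd_mul_left (by rw [hk, ← h1]; exact dvd_mul_right _ _))
      (H.cop.dvd_of_dvd_mul_right (by rw [h1, ← hk]; exact dvd_mul_left _ _))
    rw [← h1, h5]
  push Not at hall
  obtain ⟨z, hz, t, ht, hts, htz, hzc⟩ := hall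
  have e := H.symm.eq_of_le hu (hD z hz t ht hts htz) hzc
  have hz' : ix z = n := by change (Ce z).index = n; rw [e]; exact hu
  refine H.symm.noAb hu (ab_of_primary fun a ha r hr hra => ?_)
  by_cases hrs : r = s
  · subst hrs
    rcases key z a hz' (e ▸ ha) (htz.cop hra ((Nat.coprime_primes ht hr).2 hts)) with h | h
    · have h1 := h a (mem_cent_iff.2 ((mem_cent_iff.1 (e ▸ ha : a ∈ Ce z)).mul_left
        (Commute.refl a))) hra
      exact le_top.trans (cent_eq_top_iff.2 h1).ge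
    · exact e ▸ h
  · exact hD a ha r hr hrs hra

end CfsgLib.CT4
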