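import Mathlib
import Cfsg.Agent.Lib.CT4.Prime
import Cfsg.Agent.S4035
import Cfsg.Agent.Lib.Char.Burnside
import Cfsg.Agent.Lib.PLocal.Constrained

/-!
# Groups with class sizes `1, p ^ a, q ^ b, p ^ a q ^ b`: local facts
-/

set_option autoImplicit false

namespace CfsgLib.CT4

open Cfsg Subgroup CfsgLib.Fgs CfsgLib.Ito
open scoped commutatorElement

universe u

variable {G : Type u} [Group G] [Finite G] {p q m n : ℕ}

theorem mem_pCore_of_cent [Group.IsSolvable G] {x : G} (hx : IsPGroup q (zpowers x))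
    (h : ∀ r : ℕ, r.Prime → pCore r G ≤ Ce x) : x ∈ pCore q G := by
  have h1 : fittingSubgroup G ≤ Ce x := by
    rw [Core.fittingSubgroup_eq_iSup_pCore]
    exact iSup_le fun r => h r r.2
  have h2 : x ∈ fittingSubgroup G := Core.centralizer_fittingSubgroup_le fun a ha =>
    (mem_cent_iff.1 (h1 ha)).symm.eq
  exact Core.le_pCore_of_le_fittingSubgroup (zpowers_le.2 h2) hx (mem_zpowers x)

theorem pCore_le_of_not_dvd (hq : q.Prime) {x : G} (h : ¬ q ∣ ix x) : pCore q G ≤ Ce x := by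
  haveI := Fact.mk hq
  obtain ⟨Q, hQ⟩ := exists_sylow_le_of_not_dvd_index h
  exact (Core.pCore_le_sylow Q).trans hQ

theorem pCore_le_of_axb (hp : p.Prime) {u z : G} (hu : PE p u) (hz : z ∈ Ce u)
    (hc : (orderOf z).Coprime p) (h : ∀ v ∈ pCore p G, v ∈ Ce u → v ∈ Ce z) :
    pCore p G ≤ Ce z := by
  haveI := Fact.mk hp
  have := PLocal.Constr.a_times_b (hu.zp hp) (Core.isPGroup_pCore p G)
    (le_top.trans (normalizer_eq_top _).ge) hc ((normalizer_eq_top _).ge (mem_top z))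
    (by rw [Core.centralizer_zpowers]; exact hz)
    (fun v hv hvu => by
      rw [Core.centralizer_zpowers] at hvu
      exact (mem_cent_iff.1 (h v hv hvu)).symm)
  exact fun v hv => mem_cent_iff.2 (Commute.symm (this v hv))

theorem le_of_card (hp : p.Prime) {R S D : Subgroup G} {c : ℕ} (hR : IsPGroup p R) (hSR : S ≤ R)
    (hSD : S ≤ D) (hi : ¬ p ∣ S.relIndex D) (hc : ¬ p ∣ c)
    (hd : Nat.card R ∣ c * Nat.card D) : R ≤ D := by
  haveI := Fact.mk hp
  rw [← Core.card_mul_relIndex_of_le hSD, mul_comm, mul_assoc] at hd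
  have h1 : (Nat.card R).Coprime (S.relIndex D * c) := Core.isPGroup_coprime_card hR
    ((Nat.Prime.coprime_iff_not_dvd hp).2 fun h => ((Nat.Prime.dvd_mul hp).1 h).elim hi hc).symm
  have h2 := Core.eq_of_le_of_card_le hSR
    (Nat.le_of_dvd Nat.card_pos (h1.dvd_of_dvd_mul_right hd))
  exact h2 ▸ hSD

omit [Finite G] in
theorem comm_eq_one {u x : G} (hx : PE q x) (hc : PE p ⁅u, x⁆) (h : p.Coprime q)
    (hcx : ⁅u, x⁆ ∈ Ce x) : ⁅u, x⁆ = 1 := by
  have h1 : u * x * u⁻¹ = ⁅u, x⁆ * x := by rw [commutatorElement_def]; group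
  have h2 : ⁅u, x⁆ ^ orderOf x = 1 := by
    have h3 := congrArg (· ^ orderOf x) h1
    simp only [conj_pow, pow_orderOf_eq_one, (mem_cent_iff.1 hcx).symm.mul_pow] at h3
    simpa using h3.symm
  exact orderOf_eq_one_iff.1
    (Nat.Coprime.eq_one_of_dvd (hc.cop hx h) (orderOf_dvd_of_pow_eq_one h2))

/-- the class sizes are `1, m, n, m n` with `m` a power of `p` and `n` a power of `q` -/
structure Hyp2 (G : Type u) [Group G] (p q m n : ℕ) : Prop extends Hyp G m n where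
  hp : p.Prime
  hq : q.Prime
  pm : ∃ a, m = p ^ a
  qn : ∃ b, n = q ^ b

omit [Finite G] in
theorem Hyp2.symm (H : Hyp2 G p q m n) : Hyp2 G q p n m :=
  ⟨H.toHyp.symm, H.hq, H.hp, H.qn, H.pm⟩

omit [Finite G] in
theorem Hyp2.pdm (H : Hyp2 G p q m n) : p ∣ m := by
  obtain ⟨a, ha⟩ := H.pm
  have := H.hm
  rw [ha] at this ⊢
  exact dvd_pow_self p fun h => by simp [h] at this

omit [Finite G] in
theorem Hyp2.npn (H : Hyp2 G p q m n) : ¬ p ∣ n := fun h =>
  H.hp.one_lt.ne' (Nat.eq_one_of_dvd_coprimes H.cop H.pdm h)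

omit [Finite G] in
theorem Hyp2.ne (H : Hyp2 G p q m n) : p ≠ q := fun h => H.npn (h ▸ H.symm.pdm)

omit [Finite G] in
theorem Hyp2.cp (H : Hyp2 G p q m n) : p.Coprime q := (Nat.coprime_primes H.hp H.hq).2 H.ne

omit [Finite G] in
theorem Hyp2.eqp (H : Hyp2 G p q m n) {r : ℕ} (hr : r.Prime) (h : r ∣ m) : r = p := by
  obtain ⟨a, ha⟩ := H.pm
  exact (Nat.prime_dvd_prime_iff_eq hr H.hp).1 (hr.dvd_of_dvd_pow (ha ▸ h))

theorem Hyp2.cen (H : Hyp2 G p q m n) {r : ℕ} (hr : r.Prime) (h1 : r ≠ p) (h2 : r ≠ q) {a : G}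
    (ha : PE r a) : a ∈ center G :=
  H.central hr (fun h => h1 (H.eqp hr h)) (fun h => h2 (H.symm.eqp hr h)) ha

theorem Hyp2.of_dvd_center (H : Hyp2 G p q m n) {r : ℕ} (hr : r.Prime)
    (h : r ∣ (center G).index) : r = p ∨ r = q := by
  by_contra hc
  push Not at hc
  rw [← relIndex_top_right] at h
  exact not_dvd_rel hr (fun a _ ha => H.cen hr hc.1 hc.2 ha) h

theorem Hyp2.solv (H : Hyp2 G p q m n) : Group.IsSolvable G := by
  haveI : Group.IsSolvable (G ⧸ center G) :=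
    Char.isSolvable_of_prime_dvd_card H.hp H.hq fun r hr hd => H.of_dvd_center hr hd
  haveI : Group.IsSolvable (center G) := Group.isSolvable_of_comm fun a b => mul_comm' a b
  exact Group.isSolvable_of_ker_le_range (center G).subtype (QuotientGroup.mk' (center G))
    (by simp)

theorem Hyp2.CF (H : Hyp2 G p q m n) {x : G} (hx : PE q x) (h1 : pCore p G ≤ Ce x)
    (h2 : pCore q G ≤ Ce x) : x ∈ pCore q G := by
  haveI := H.solv
  refine mem_pCore_of_cent (hx.zp H.hq) fun r hr => ?_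
  by_cases hp : r = p
  · exact hp ▸ h1
  by_cases hq : r = q
  · exact hq ▸ h2
  exact fun a ha => center_le_cent x (H.cen hr hp hq (PE.of_mem hr (Core.isPGroup_pCore r G) ha))

theorem Hyp2.cen_mem (H : Hyp2 G p q m n) {x : G} (hx : PE q x) (h : x ∈ center G) :
    x ∈ pCore q G :=
  H.CF hx (le_top.trans (cent_eq_top_iff.2 h).ge) (le_top.trans (cent_eq_top_iff.2 h).ge)

theorem Hyp2.VW (H : Hyp2 G p q m n) {x : G} (hx : x ∈ pCore q G) : pCore p G ≤ Ce x := by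
  haveI := Fact.mk H.hp
  haveI := Fact.mk H.hq
  have := Core.le_centralizer_of_normal_of_disjoint (disjoint_iff.1 (IsPGroup.disjoint_of_ne p q
    H.ne _ _ (Core.isPGroup_pCore p G) (Core.isPGroup_pCore q G)))
  exact fun v hv => mem_cent_iff.2 (this hv x hx)

theorem Hyp2.F3 (H : Hyp2 G p q m n) {u z : G} (hu : PE p u) (hi : ix u = m * n) (hz : z ∈ Ce u)
    (hc : (orderOf z).Coprime p) : pCore p G ≤ Ce z :=
  pCore_le_of_axb H.hp hu hz hc fun _ _ hv => H.le_of_full hi hz (hu.cop' hc.symm) hv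

theorem Hyp2.F2 (H : Hyp2 G p q m n) {u : G} (hu : PE p u) (hi : n ∣ ix u) {R : Subgroup G}
    (hR : IsPGroup q R) (hRu : R ≤ Ce u) {a b : G} (ha : a ∈ R) (hb : b ∈ R) : b ∈ Ce a := by
  haveI := Fact.mk H.hq
  rcases H.symm.of_dvd hi with e | e
  · obtain ⟨A, hA, -, k, hk⟩ := (Cfsg.Agent.S4034.result (G := Ce u) H.hp).1 fun z hz => by
      rw [ncard_sub]
      rcases H.symm.rel_m e z.2 (hu.cop' (by rw [orderOf_coe]; exact hz.symm)) with h | h
      · exact ⟨0, by rw [h, pow_zero]⟩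
      · rw [h]; exact H.pm
    obtain ⟨Q, hQ⟩ := exists_sylow_le_of_not_dvd_index (p := q) (H := A) (by
      rw [hk]; exact fun h => H.ne ((Nat.prime_dvd_prime_iff_eq H.hq H.hp).1
        (H.hq.dvd_of_dvd_pow h)).symm)
    obtain ⟨g, hg⟩ := SylTools.exists_conj_le_sylow (hR.comap_subtype (K := Ce u)) Q
    have h1 := Core.isMulCommutative_iff_forall.1 hA _ (hQ (hg ⟨a, hRu ha⟩ ha)) _
      (hQ (hg ⟨b, hRu hb⟩ hb))
    have h2 : (⟨a, hRu ha⟩ : Ce u) * ⟨b, hRu hb⟩ = ⟨b, hRu hb⟩ * ⟨a, hRu ha⟩ := by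
      refine (MulAut.conj g).injective ?_
      rw [map_mul, map_mul]; exact h1
    exact mem_cent_iff.2 (congrArg Subtype.val h2)
  · exact H.symm.le_of_full e (hRu ha) (hu.cop (PE.of_mem H.hq hR ha) H.cp) (hRu hb)

theorem Hyp2.caseI (H : Hyp2 G p q m n) {y : G} (hy : PE q y) (hi : ix y = n) :
    (∃ P : Sylow p G, (P : Subgroup G).Normal) ∧ ∃ x : G, PE p x ∧ ix x = m := by
  haveI := Fact.mk H.hp
  haveI := Fact.mk H.hq
  have hreg : ∀ z : Ce y, (orderOf z).Coprime q → ¬ q ∣ (Ce (z : G)).relIndex (Ce y) := by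
    intro z hz
    rcases H.symm.rel_m hi z.2 (hy.cop' (by rw [orderOf_coe]; exact hz.symm)) with h | h <;> rw [h]
    exacts [H.hq.not_dvd_one, H.symm.npn]
  have K1 : ∀ h ∈ Ce y, (orderOf h).Coprime q → ∀ w ∈ Ce y, PE q w → w ∈ Ce h := by
    intro h hh hc w hw ⟨k, hk⟩
    have h1 := hreg ⟨h, hh⟩ (by rwa [← orderOf_coe])
    rw [← index_cent_subgroup (Ce y) ⟨h, hh⟩] at h1
    obtain ⟨Q, hQ⟩ := exists_sylow_le_of_not_dvd_index h1
    have hN := (Cfsg.Agent.S4035.result (G := Ce y) (p := q)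
      (fun z hz => by rw [ncard_sub]; exact hreg z hz) Q).1
    obtain ⟨g, hg⟩ := SylTools.exists_conj_mem_sylow (x := (⟨w, hw⟩ : Ce y)) (k := k)
      (by rwa [← orderOf_coe]) Q
    have h2 := hN.conj_mem _ hg g⁻¹
    rw [show g⁻¹ * (g * ⟨w, hw⟩ * g⁻¹) * g⁻¹⁻¹ = ⟨w, hw⟩ by group] at h2
    exact mem_cent_iff.2 (congrArg Subtype.val (mem_cent_iff.1 (hQ h2)).eq)
  have hyW : y ∈ pCore q G := by
    obtain ⟨Q, hQ⟩ := exists_sylow_mem hy
    rw [Core.pCore_eq_normalCore Q]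
    intro g
    obtain ⟨b, hb, a, ha, rfl⟩ := exists_mul_of_coprime_index (A := Ce y) (B := (Q : Subgroup G))
      (by
        change (ix y).Coprime _
        obtain ⟨k, hk⟩ := H.qn
        rw [hi, hk]
        exact Nat.Coprime.pow_left _ ((Nat.Prime.coprime_iff_not_dvd H.hq).2 Q.not_dvd_index)) g
    rw [show b * a * y * (b * a)⁻¹ = b * (a * y) * a⁻¹ * b⁻¹ by group,
      ← (mem_cent_iff.1 ha).eq, show b * (y * a) * a⁻¹ * b⁻¹ = b * y * b⁻¹ by group]
    exact mul_mem (mul_mem hb hQ) (inv_mem hb)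
  have hW : ∀ h ∈ Ce y, (orderOf h).Coprime q → pCore q G ≤ Ce h := fun h hh hc =>
    pCore_le_of_axb H.hq hy hh hc fun v hv hvy =>
      K1 h hh hc v hvy (PE.of_mem H.hq (Core.isPGroup_pCore q G) hv)
  obtain ⟨P, hP⟩ := exists_sylow_le_of_not_dvd_index (p := p) (H := Ce y) (by
    change ¬ p ∣ ix y
    rw [hi]; exact H.npn)
  have hPq : ∀ a ∈ (P : Subgroup G), (orderOf a).Coprime q := fun a ha =>
    (PE.of_mem H.hp P.isPGroup' ha).cop' H.cp
  have hN : Ce y ≤ normalizer ((P : Subgroup G) : Set G) := by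
    refine le_of_primes fun r hr => ?_
    by_cases h1 : r = p
    · subst h1
      exact fun h => SylTools.not_dvd_relIndex_sylow P _ hP
        (h.trans (relIndex_dvd_of_le_left _ le_normalizer))
    by_cases h2 : r = q
    · subst h2
      exact not_dvd_rel hr fun w hw hrw => centralizer_le_normalizer _ fun a ha =>
        (mem_cent_iff.1 (K1 a (hP ha) (hPq a ha) w hw hrw)).eq
    exact not_dvd_rel hr fun w _ hrw => center_le_normalizer _ (H.cen hr h1 h2 hrw)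
  refine ⟨⟨P, ⟨fun a ha g => ?_⟩⟩, ?_⟩
  · have h1 : g⁻¹ * y * g⁻¹⁻¹ ∈ Ce a :=
      hW a (hP ha) (hPq a ha) ((pCore_normal q G).conj_mem y hyW g⁻¹)
    have h2 : g * a * g⁻¹ ∈ Ce y := mem_cent_iff.2 (by
      have h3 := (mem_cent_iff.1 h1).eq
      calc y * (g * a * g⁻¹) = g * ((g⁻¹ * y * g⁻¹⁻¹) * a) * g⁻¹ := by group
        _ = g * (a * (g⁻¹ * y * g⁻¹⁻¹)) * g⁻¹ := by rw [h3]
        _ = g * a * g⁻¹ * y := by group)
    obtain ⟨k, hk⟩ := (PE.of_mem H.hp P.isPGroup' ha).conj g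
    obtain ⟨h, hh, h4⟩ := SylTools.exists_conj_mem_sylow_of_mem hk h2 P hP
    exact (mem_normalizer_iff.1 (hN hh) _).2 h4
  · obtain ⟨x, hx⟩ := H.exm
    obtain ⟨r, a, hr, hra, e⟩ := H.exists_primary hx
    have ha : ix a = m := by change (Ce a).index = m; rw [e]; exact hx
    by_cases h1 : r = p
    · exact ⟨a, h1 ▸ hra, ha⟩
    exfalso
    by_cases h2 : r = q
    · subst h2
      have h3 : a ∈ Ce y :=
        mem_Ce_symm (pCore_le_of_not_dvd hr (by rw [ha]; exact H.symm.npn) hyW)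
      refine not_dvd_index_of_sylow_le (H := Ce a) P
        (fun b hb => mem_Ce_symm (K1 b (hP hb) (hPq b hb) a h3 hra)) ?_
      change p ∣ ix a
      rw [ha]; exact H.pdm
    · exact H.not_center (ha ▸ dvd_rfl) (H.cen hr h1 h2 hra)

theorem Hyp2.nilp_of_caseI (H : Hyp2 G p q m n) {y : G} (hy : PE q y) (hi : ix y = n) :
    Group.IsNilpotent G := by
  obtain ⟨h1, x, hx, hxm⟩ := H.caseI hy hi
  obtain ⟨h2, -⟩ := H.symm.caseI hx hxm
  refine Core.isNilpotent_of_forall_exists_sylow_normal fun r hr => ?_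
  by_cases hp : r = p
  · subst hp; exact h1
  by_cases hq : r = q
  · subst hq; exact h2
  obtain ⟨R⟩ : Nonempty (Sylow r G) := inferInstance
  refine ⟨R, ⟨fun a ha g => ?_⟩⟩
  rw [mem_center_iff.1 (H.cen hr.out hp hq (PE.of_mem hr.out R.isPGroup' ha)) g,
    mul_inv_cancel_right]
  exact ha

end CfsgLib.CT4
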