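import Mathlib
import Cfsg.Agent.Lib.CT4.Two
import Cfsg.Agent.Lib.Coprime.Abelian

/-!
# Groups with class sizes `1, p ^ a, q ^ b, p ^ a q ^ b` are nilpotent
-/

set_option autoImplicit false

namespace CfsgLib.CT4

open Cfsg Subgroup CfsgLib.Fgs CfsgLib.Ito
open scoped commutatorElement

universe u

variable {G : Type u} [Group G] [Finite G] {p q m n : ℕ}

/-- the remaining case -/
structure Hyp3 (G : Type u) [Group G] (p q m n : ℕ) : Prop extends Hyp2 G p q m n where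
  np : ∀ x : G, PE p x → ix x ≠ m
  nq : ∀ y : G, PE q y → ix y ≠ n

omit [Finite G] in
theorem Hyp3.symm (H : Hyp3 G p q m n) : Hyp3 G q p n m := ⟨H.toHyp2.symm, H.nq, H.np⟩

theorem Hyp3.exq (H : Hyp3 G p q m n) : ∃ x : G, PE q x ∧ ix x = m := by
  obtain ⟨x, hx⟩ := H.exm
  obtain ⟨r, a, hr, hra, e⟩ := H.exists_primary hx
  have ha : ix a = m := by change (Ce a).index = m; rw [e]; exact hx
  by_cases h1 : r = p
  · exact absurd ha (H.np a (h1 ▸ hra))
  by_cases h2 : r = q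
  · exact ⟨a, h2 ▸ hra, ha⟩
  exact absurd (H.cen hr h1 h2 hra) (H.not_center (ha ▸ dvd_rfl))

omit [Finite G] in
theorem Hyp3.mdvd (H : Hyp3 G p q m n) {x : G} (hx : PE q x) (hc : x ∉ center G) : m ∣ ix x := by
  rcases H.mem x with e | e | e | e
  · exact absurd (index_cent_eq_one_iff.1 e) hc
  · exact e ▸ dvd_rfl
  · exact absurd e (H.nq x hx)
  · exact e ▸ dvd_mul_right _ _

theorem Hyp3.E (H : Hyp3 G p q m n) {x : G} (hx : PE q x) (hc : x ∉ center G) :
    ∃ y ∈ Ce x, PE p y ∧ y ∉ center G := by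
  by_contra hE
  push Not at hE
  have hm : 0 < m := by have := H.hm; omega
  have h1 := not_dvd_rel H.hp hE
  obtain ⟨t, ht, hpt⟩ : ∃ t, (center G).index = t * m ∧ ¬ p ∣ t := by
    rcases H.of_dvd (H.mdvd hx hc) with e | e
    · exact ⟨_, by rw [← rel_center_mul x, e], h1⟩
    · exact ⟨(center G).relIndex (Ce x) * n, by rw [← rel_center_mul x, e]; ring,
        fun h => ((Nat.Prime.dvd_mul H.hp).1 h).elim h1 H.npn⟩
  obtain ⟨y, hy, hyn⟩ := H.symm.exq
  have h2 : ¬ q ∣ (center G).relIndex (Ce y) := not_dvd_rel H.hq fun z hz hqz => by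
    by_contra hzc
    obtain ⟨c, hc⟩ := H.mdvd hqz hzc
    refine H.symm.not_center (hyn ▸ dvd_rfl) (mem_of_not_dvd_rel H.hp
      (fun h => hpt (h.trans ⟨c, ?_⟩)) (mem_Ce_symm hz) hy)
    refine Nat.eq_of_mul_eq_mul_right hm ?_
    rw [← ht, ← rel_center_mul z, hc]; ring
  have h3 := rel_center_mul y
  rw [hyn] at h3
  obtain ⟨e, he⟩ : m ∣ (center G).relIndex (Ce y) :=
    H.cop.dvd_of_dvd_mul_right (by rw [h3, ht]; exact dvd_mul_left _ _)
  have h4 : e = 1 := by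
    by_contra h5
    obtain ⟨r, hr, hre⟩ := Nat.exists_prime_and_dvd h5
    rcases H.of_dvd_center hr (by rw [← h3, he]; exact (hre.mul_left _).mul_right _) with h | h
    · refine hpt (h ▸ hre.trans ⟨n, Nat.eq_of_mul_eq_mul_right hm ?_⟩)
      rw [← ht, ← h3, he]; ring
    · exact h2 (he ▸ (h ▸ hre).mul_left _)
  exact H.noZ (by rw [← h3, he, h4, mul_one])

theorem Hyp3.ixn (H : Hyp3 G p q m n) {x v : G} (hx : ix x = m) {S : Subgroup G}
    (hS : IsPGroup p S) (hSx : S ≤ Ce x) (hi : ¬ p ∣ S.relIndex (Ce x)) (hv : PE p v)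
    (hvx : v ∉ Ce x) (hSv : S ≤ Ce v) : ix v = n := by
  refine (H.symm.of_dvd (H.symm.mdvd hv fun h => hvx (center_le_cent x h))).resolve_right
    fun e => hvx ?_
  have hR : IsPGroup p (S ⊔ zpowers v : Subgroup G) := hS.to_sup_of_normal_right' (hv.zp H.hp)
    (hSv.trans ((Core.centralizer_zpowers v).ge.trans (centralizer_le_normalizer _)))
  refine le_of_card H.hp hR le_sup_left hSx hi H.hp.not_dvd_one ?_ (mem_sup_right (mem_zpowers v))
  have h1 := card_dvd_of_le (sup_le hSv (zpowers_le.2 (self_mem_cent v)))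
  refine h1.trans ⟨n, Nat.eq_of_mul_eq_mul_right (hx ▸ ix_pos x : 0 < m) ?_⟩
  rw [one_mul, mul_assoc, ← e, card_mul_ix, ← hx, card_mul_ix]

theorem Hyp3.mem_opq (H : Hyp3 G p q m n) {x : G} (hx : PE q x) (hi : ix x = m) :
    (x : G ⧸ pCore p G) ∈ pCore q (G ⧸ pCore p G) := by
  haveI := H.solv
  refine mem_pCore_of_cent (by
    have := (hx.zp H.hq).map (QuotientGroup.mk' (pCore p G))
    rwa [MonoidHom.map_zpowers] at this) fun r hr => ?_
  by_cases h1 : r = p
  · rw [h1, Core.pCore_quotient_pCore]; exact bot_le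
  haveI := Fact.mk hr
  obtain ⟨R, hR⟩ := exists_sylow_le_of_not_dvd_index (p := r) (H := Ce x) (by
    change ¬ r ∣ ix x
    rw [hi]; exact fun h => h1 (H.eqp hr h))
  exact (Core.pCore_le_sylow (R.mapSurjective (QuotientGroup.mk'_surjective _))).trans
    ((map_mono hR).trans (map_cent_le _ x))

theorem Hyp3.claimA (H : Hyp3 G p q m n) {x : G} (hx : PE q x) (hi : ix x = m) :
    x ∈ pCore q G := by
  haveI := Fact.mk H.hp
  haveI := Fact.mk H.hq
  by_contra hxW
  have hV : ¬ pCore p G ≤ Ce x := fun h =>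
    hxW (H.CF hx h (pCore_le_of_not_dvd H.hq (by rw [hi]; exact H.symm.npn)))
  have pV : ∀ v ∈ pCore p G, PE p v := fun v hv => PE.of_mem H.hp (Core.isPGroup_pCore p G) hv
  have A0 : ∀ y ∈ Ce x, PE p y → y ∉ center G → ix y = n := fun y hy hpy hc =>
    (H.symm.of_dvd (H.symm.mdvd hpy hc)).resolve_right fun e =>
      hV (H.F3 hpy (e.trans (mul_comm _ _)) (mem_Ce_symm hy) (hx.cop' H.cp.symm))
  set K := normalClosure ({x} : Set G) with hK
  have hxK : x ∈ K := subset_normalClosure rfl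
  have A1 : ∀ y ∈ Ce x, PE p y → K ≤ Ce y := by
    intro y hy hpy
    by_cases hc : y ∈ center G
    · exact le_top.trans (cent_eq_top_iff.2 hc).ge
    refine (closure_le _).2 fun z hz => ?_
    obtain ⟨a, ha, hz'⟩ := Group.mem_conjugatesOfSet_iff.1 hz
    rw [Set.mem_singleton_iff.1 ha] at hz'
    obtain ⟨g, rfl⟩ := isConj_iff.1 hz'
    obtain ⟨b, hb, c, hc', rfl⟩ := exists_mul_of_coprime_index (A := Ce x) (B := Ce y) (by
      change (ix x).Coprime (ix y)
      rw [hi, A0 y hy hpy hc]; exact H.cop) g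
    rw [show b * c * x * (b * c)⁻¹ = b * (c * x) * c⁻¹ * b⁻¹ by group,
      ← (mem_cent_iff.1 hc').eq, show b * (x * c) * c⁻¹ * b⁻¹ = b * x * b⁻¹ by group]
    exact mul_mem (mul_mem hb (mem_Ce_symm hy)) (inv_mem hb)
  obtain ⟨y, hy, hpy, hyc⟩ := H.E hx (H.not_center (hi ▸ dvd_rfl))
  obtain ⟨S, hS, hyS, hSx, hSi⟩ := SylTools.exists_sylow_of_le (hpy.zp H.hp) (zpowers_le.2 hy)
  have hyS' : y ∈ S := hyS (mem_zpowers y)
  have hSK : ∀ k ∈ K, S ≤ Ce k := fun k hk b hb =>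
    mem_Ce_symm (A1 b (hSx hb) (PE.of_mem H.hp hS hb) hk)
  set U := K ⊓ pCore p G with hU
  have A2 : ∀ u ∈ U, pCore p G ≤ Ce u := by
    intro u hu
    by_cases hc : u ∈ center G
    · exact le_top.trans (cent_eq_top_iff.2 hc).ge
    refine pCore_le_of_not_dvd H.hp ?_
    by_cases hux : u ∈ Ce x
    · rw [A0 u hux (pV u hu.2) hc]; exact H.npn
    · rw [H.ixn hi hS hSx hSi (pV u hu.2) hux (hSK u hu.1)]; exact H.npn
  haveI hUab : IsMulCommutative U := Core.isMulCommutative_iff_forall.2 fun a ha b hb =>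
    (mem_cent_iff.1 (A2 a ha hb.2)).eq
  have hKM : K ≤ (pCore q (G ⧸ pCore p G)).comap (QuotientGroup.mk' _) :=
    normalClosure_le_normal (Set.singleton_subset_iff.2 (H.mem_opq hx hi))
  obtain ⟨X, hX, -, hXK, hXi⟩ := SylTools.exists_sylow_of_le (p := q) (A := ⊥) (H := K)
    IsPGroup.of_bot bot_le
  have A3 : K ≤ U ⊔ X := by
    refine le_of_primes fun r hr => ?_
    by_cases h1 : r = q
    · subst h1
      exact fun h => hXi (h.trans (relIndex_dvd_of_le_left _ le_sup_right))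
    refine not_dvd_rel hr fun a ha hra => mem_sup_left ⟨ha, ?_⟩
    obtain ⟨k, hk⟩ := Core.isPGroup_subgroup_iff.1 (Core.isPGroup_pCore q _) _ (hKM ha)
    rw [← map_pow, QuotientGroup.mk'_apply, QuotientGroup.eq_one_iff] at hk
    obtain ⟨j, hj⟩ := exists_pow_eq_self_of_coprime (x := a) (n := q ^ k)
      (Nat.Coprime.pow_left _ (hra.cop' ((Nat.coprime_primes hr H.hq).2 h1)).symm)
    rw [← hj]; exact pow_mem hk _
  have A3' : ⁅U, K⁆ ≤ ⁅U, X⁆ := by
    rw [commutator_le]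
    intro u hu k hk
    obtain ⟨a, ha, b, hb, rfl⟩ := (Core.mem_sup_of_le_normalizer_left
      (le_top.trans (normalizer_eq_top U).ge)).1 (A3 hk)
    have h1 : ⁅u, b⁆ ∈ U := commutator_le_left U X (commutator_mem_commutator hu hb)
    have h2 := (mem_cent_iff.1 (A2 u hu ha.2)).eq
    have h3 := (mem_cent_iff.1 (A2 _ h1 ha.2)).eq
    have h4 : ⁅u, a * b⁆ = ⁅u, b⁆ := by
      calc ⁅u, a * b⁆ = (u * a) * b * u⁻¹ * b⁻¹ * a⁻¹ := by rw [commutatorElement_def]; group
        _ = a * ⁅u, b⁆ * a⁻¹ := by rw [h2, commutatorElement_def]; group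
        _ = ⁅u, b⁆ := by rw [← h3]; group
    rw [h4]; exact commutator_mem_commutator hu hb
  have A4 : ∀ c ∈ ⁅U, K⁆, K ≤ Ce c → c = 1 := by
    intro c hc hKc
    have h1 := Coprime.centralizer_inf_commutator_eq_bot (V := U) (A := X)
      (le_top.trans (normalizer_eq_top U).ge) (by
        obtain ⟨i, hi⟩ := ((Core.isPGroup_pCore p G).to_le (inf_le_right : U ≤ _)).exists_card_eq
        rw [hi]
        exact (Core.isPGroup_coprime_card hX H.cp).pow_right _)
    rw [← mem_bot, ← h1]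
    exact ⟨fun b hb => (mem_cent_iff.1 (hKc (hXK hb))).symm.eq, A3' hc⟩
  have hUU : ⁅U, K⁆ ≤ U := commutator_le_left U K
  obtain ⟨v, hv, hvx⟩ : ∃ v ∈ ⁅U, K⁆, v ∉ Ce x := by
    by_contra hc
    push Not at hc
    refine hV fun w hw => ?_
    have h1 : ⁅w, x⁆ ∈ U := by
      have := commutator_le_inf (pCore p G) K (commutator_mem_commutator hw hxK)
      exact ⟨this.2, this.1⟩
    have h2 := commutator_mem_commutator h1 hxK
    have h3 := comm_eq_one hx (pV _ (hUU h2).2) H.cp (hc _ h2)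
    have h4 := comm_eq_one hx (pV _ h1.2) H.cp
      (mem_cent_iff.2 (commutatorElement_eq_one_iff_commute.1 h3).symm)
    exact mem_cent_iff.2 (commutatorElement_eq_one_iff_commute.1 h4).symm
  have hvU := hUU hv
  have hpw : PE p (v * y) := PE.of_mem H.hp
    (hS.to_sup_of_normal_right (Core.isPGroup_pCore p G))
    (mul_mem (mem_sup_right hvU.2) (mem_sup_left hyS'))
  have hwx : v * y ∉ Ce x := fun h => hvx ((mul_mem_cancel_right hy).1 h)
  have hw := H.ixn hi hS hSx hSi hpw hwx fun b hb => mem_cent_iff.2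
    ((mem_cent_iff.1 (hSK v hvU.1 hb)).mul_left
      (mem_cent_iff.1 (H.symm.F2 hx (hi ▸ dvd_rfl) hS hSx hyS' hb)))
  have hle : Ce (v * y) ≤ Ce y := by
    intro h hh
    have h1 := (mem_cent_iff.1 hh).eq
    have h2 : v⁻¹ * (h * v * h⁻¹) = y * (h * y * h⁻¹)⁻¹ := by
      calc v⁻¹ * (h * v * h⁻¹) = v⁻¹ * (h * (v * y)) * y⁻¹ * h⁻¹ := by group
        _ = v⁻¹ * (v * y * h) * y⁻¹ * h⁻¹ := by rw [h1]
        _ = y * (h * y * h⁻¹)⁻¹ := by group
    have h3 := A4 _ (mul_mem (inv_mem hv) (Normal.conj_mem inferInstance v hv h)) (by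
      rw [h2]
      intro k hk
      have h4 := mem_cent_iff.1 (A1 y hy hpy hk)
      have h5 := (mem_cent_iff.1 (A1 y hy hpy (Normal.conj_mem inferInstance k hk h⁻¹))).eq
      refine mem_cent_iff.2 (h4.mul_left (Commute.inv_left ?_))
      calc h * y * h⁻¹ * k = h * (y * (h⁻¹ * k * h⁻¹⁻¹)) * h⁻¹ := by group
        _ = h * ((h⁻¹ * k * h⁻¹⁻¹) * y) * h⁻¹ := by rw [h5]
        _ = k * (h * y * h⁻¹) := by group)
    rw [h2, mul_inv_eq_one] at h3
    refine mem_cent_iff.2 ?_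
    calc y * h = h * y * h⁻¹ * h := by rw [← h3]
      _ = h * y := by group
  have e := eq_of_le_of_ix hle ((A0 y hy hpy hyc).trans hw.symm)
  exact hwx (mem_Ce_symm (e ▸ mem_Ce_symm hy))

theorem Hyp3.false (H : Hyp3 G p q m n) : False := by
  haveI := Fact.mk H.hp
  obtain ⟨x, hx, hxm⟩ := H.exq
  obtain ⟨y, hy, hyn⟩ := H.symm.exq
  have hall : ∀ u : G, PE p u → u ∈ pCore p G := by
    intro u hu
    by_contra huV
    have huc : u ∉ center G := fun h => huV (H.symm.cen_mem hu h)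
    have hf : ix u = n * m := (H.symm.of_dvd (H.symm.mdvd hu huc)).resolve_left fun e =>
      huV (H.symm.claimA hu e)
    have h1 : ∀ z ∈ Ce u, PE q z → z ∉ center G → pCore p G ≤ Ce u := by
      intro z hz hqz hzc v hv
      have h2 := H.F3 hu (hf.trans (mul_comm _ _)) hz (hqz.cop' H.cp.symm)
      exact H.symm.F2 hqz (H.mdvd hqz hzc)
        ((hu.zp H.hp).to_sup_of_normal_right (Core.isPGroup_pCore p G))
        (sup_le (zpowers_le.2 (mem_Ce_symm hz)) h2) (mem_sup_left (mem_zpowers u))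
        (mem_sup_right hv)
    obtain ⟨z₀, hz₀, hq₀, hc₀⟩ := H.symm.E hu huc
    have h3 : ¬ pCore q G ≤ Ce u := fun h => huV (H.symm.CF hu h (h1 z₀ hz₀ hq₀ hc₀))
    have h4 : ∀ z ∈ Ce u, PE q z → z ∈ pCore q G := by
      intro z hz hqz
      by_cases hzc : z ∈ center G
      · exact H.cen_mem hqz hzc
      rcases H.of_dvd (H.mdvd hqz hzc) with e | e
      · exact H.claimA hqz e
      · exact absurd (H.symm.F3 hqz (e.trans (mul_comm _ _)) (mem_Ce_symm hz) (hu.cop' H.cp)) h3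
    refine h3 (le_of_card (c := m) H.hq (Core.isPGroup_pCore q G) inf_le_left inf_le_right
      (by rw [inf_relIndex_right]; exact not_dvd_rel H.hq h4) H.symm.npn ?_)
    refine (card_dvd_of_le (H.symm.VW (H.symm.claimA hy hyn))).trans (dvd_of_eq ?_)
    refine Nat.eq_of_mul_eq_mul_right (hyn ▸ ix_pos y : 0 < n) ?_
    rw [mul_comm m, mul_assoc, mul_comm m, ← hf, card_mul_ix, ← hyn, card_mul_ix]
  obtain ⟨P⟩ : Nonempty (Sylow p G) := inferInstance
  refine not_dvd_index_of_sylow_le (H := Ce x) P (fun a ha => H.VW (H.claimA hx hxm)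
    (hall a (PE.of_mem H.hp P.isPGroup' ha))) ?_
  change p ∣ ix x
  rw [hxm]; exact H.pdm

theorem Hyp2.nilp (H : Hyp2 G p q m n) : Group.IsNilpotent G := by
  by_cases h1 : ∃ y : G, PE q y ∧ ix y = n
  · obtain ⟨y, hy, e⟩ := h1
    exact H.nilp_of_caseI hy e
  by_cases h2 : ∃ x : G, PE p x ∧ ix x = m
  · obtain ⟨x, hx, e⟩ := h2
    exact H.symm.nilp_of_caseI hx e
  push Not at h1 h2
  exact (Hyp3.false ⟨H, h2, h1⟩).elim

theorem Hyp.nilp (H : Hyp G m n) : Group.IsNilpotent G := by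
  obtain ⟨q, b, hq, -, hb⟩ := (isPrimePow_nat_iff n).1 H.isPrimePow
  obtain ⟨p, a, hp, -, ha⟩ := (isPrimePow_nat_iff m).1 H.symm.isPrimePow
  exact Hyp2.nilp ⟨H, hp, hq, ⟨a, ha.symm⟩, ⟨b, hb.symm⟩⟩

end CfsgLib.CT4
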